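import Cfsg.Agent.Mrg.Omega.KL.StarQ.GrpD
import Cfsg.Agent.Mrg.Omega.ML.LieTwF4
import Cfsg.Agent.Mrg.Omega.EK3.Rank
import Cfsg.Agent.Mrg.Omega.NO3b.Exit.BlkBP


/-!
# LightL (E), `n = 5`: `J(O)` centralises `V` ⇒ FAIL (helper411 #25060 (B), referee helper119 #25264)

`C` (= `C_G(12)`) normalises the elementary abelian `M = ⟨V^C⟩`, `T` is a Sylow 2-subgroup of `C`, `Z` (= `⟨34⟩`) is
centralised by `T`, `D = C_C(Z)`, `O = O₂(D)`, `Y` (= `⟨z₁, z₂⟩`) `≤ M` is `T`-invariant, `N = ⟨Z^C⟩`,
`U = ⟨Z^(C_C(Y) T)⟩`.  The `T`-minimal `P ≤ C` which move `Z` have odd part in `C(Y)`.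

* `DtB C T M V Z Y` : the hypotheses, `J(O)` centralises `V`;
* **`DtB.fail`** : `C_A(U) ≤ C(N)` for all `A ∈ AA(O)`: otherwise `C_A(U)` is exact on `M` and KL* (`StarQ.GInD`) gives
  a contradiction to EXT.
-/

set_option autoImplicit false
set_option linter.unusedSectionVars false

namespace Cfsg.Agent.Omega.NO3S.TwoB

open Subgroup Cfsg Cfsg.Agent.Omega.MinPar
open Cfsg.Agent.ZN (o2 jj)
open Cfsg.Agent.ZN.ChoiceBase (AA mm_eq mem_AA_iff jj_eq jj_le le_jj jj_cj cj_inf cj_centralizer cj cj_mono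
  mem_normalizer_iff_cj cj_eq_of_mem_normalizer)
open Cfsg.Agent.MinSimple.MinParabolic (IsMinPar)
open Cfsg.Agent.MinSimple.VModule (le_o2 o2_isPGroup o2_le le_normalizer_o2 o2_le_of_sylow)
open Cfsg.Agent.Omega.ML.GMod (ZD normalizer_le_normalizer_o2 not_dvd_of_le nc)
open Cfsg.Agent.Omega.NO3S.EThree.ExactA (eab_mono eab_sup eab_iff)
open Cfsg.Agent.Omega.EK3.Rank
open Cfsg.Agent.Omega.NoFF.Basic (comm_symm comm_mono Z_le_V V_le)
open scoped Pointwise

universe u

variable {G : Type u} [Group G]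

/-- **the hypotheses** -/
structure DtB (C T M V Z Y : Subgroup G) : Prop where
  CM : C ≤ normalizer (M : Set G)
  eM : IsElementaryAbelian 2 M
  /-- `M = ⟨V^C⟩` -/
  MV : M ≤ NoFF.Basic.V V C
  TC : T ≤ C
  two : IsPGroup 2 T
  syl : ¬ 2 ∣ T.relIndex C
  ZM : Z ≤ M
  YM : Y ≤ M
  TZ : T ≤ centralizer (Z : Set G)
  /-- `N_C(T)` centralises `Z` -/
  NZ : C ⊓ normalizer (T : Set G) ≤ centralizer (Z : Set G)
  NY : C ⊓ normalizer (T : Set G) ≤ normalizer (Y : Set G)
  /-- `C_Y(T)` is central in `C` -/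
  cY : Y ⊓ centralizer (T : Set G) ≤ centralizer (C : Set G)
  /-- UNI -/
  uni : ∀ P : Subgroup G, IsMinPar T P → P ≤ C → ¬ P ≤ centralizer (Z : Set G) →
    ∀ g ∈ P, Odd (orderOf g) → g ∈ centralizer (Y : Set G)
  MO : M ≤ o2 (C ⊓ centralizer (Z : Set G))
  /-- `J(O)` centralises `V` -/
  J : jj (o2 (C ⊓ centralizer (Z : Set G))) ≤ centralizer (V : Set G)
  K : IsKGroup C

theorem le_norm_V (Z P : Subgroup G) : P ≤ normalizer (NoFF.Basic.V Z P : Set G) := ML.GMod.le_normalizer_hul Z P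

theorem Z_le (Z P : Subgroup G) : Z ≤ NoFF.Basic.V Z P := ML.GMod.le_hul Z P

theorem V_le_of {Z P A : Subgroup G} (hZ : Z ≤ A) (hP : P ≤ normalizer (A : Set G)) : NoFF.Basic.V Z P ≤ A :=
  ML.GMod.hul_le_of hZ hP

namespace DtB

variable {C T M V Z Y : Subgroup G}

theorem NM (h : DtB C T M V Z Y) : NoFF.Basic.V Z C ≤ M := V_le_of h.ZM h.CM

variable [Finite G]

theorem TD (h : DtB C T M V Z Y) : T ≤ C ⊓ centralizer (Z : Set G) := le_inf h.TC h.TZ

theorem OT (h : DtB C T M V Z Y) : o2 (C ⊓ centralizer (Z : Set G)) ≤ T :=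
  o2_le_of_sylow h.two (not_dvd_of_le h.syl h.TD inf_le_left)

/-- (NO) for `P` with `T ≤ P ≤ C` on `⟨Z^P⟩`, over `O` -/
theorem noOn (h : DtB C T M V Z Y) (hML : ML.Final.MLK.{u, u}) {P : Subgroup G} (hT : T ≤ P) (hP : P ≤ C) :
    NoOn (o2 (C ⊓ centralizer (Z : Set G))) (NoFF.Basic.V Z P) := by
  intro A hA hAO
  have hVM : NoFF.Basic.V Z P ≤ M := V_le_of h.ZM (hP.trans h.CM)
  have hD : ZD P (NoFF.Basic.V Z P) Z T A :=
    { nV := le_norm_V Z P
      sq := fun v hv => by
        rw [← pow_two]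
        exact (eab_iff.1 h.eM).2 v (hVM hv)
      ZV := Z_le Z P
      gen := fun U hZ hU => V_le_of hZ hU
      TL := hT
      two := h.two
      odd := not_dvd_of_le h.syl hT hP
      TZ := h.TZ
      AO := by
        refine le_trans ?_ (NO3S.EMany.Low.InpG.o2_le_o2_of_le (inf_le_inf_right _ hP))
        exact le_inf hAO (le_inf (hAO.trans (h.OT.trans hT)) (hAO.trans (h.OT.trans h.TZ)))
      Asq := fun a ha => by
        rw [← pow_two, (eab_iff.1 hA).2 a ha]
        exact one_mem _ }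
  exact hD.gml hML (ML.GMod.kg_le h.K hP)

/-- `O ∩ C(N) = O₂(C)` -/
theorem Q_eq (h : DtB C T M V Z Y) :
    o2 (C ⊓ centralizer (Z : Set G)) ⊓ centralizer (NoFF.Basic.V Z C : Set G) = o2 C := by
    apply le_antisymm
    · have h1 : o2 (C ⊓ centralizer (Z : Set G)) ⊓ centralizer (NoFF.Basic.V Z C : Set G) ≤
          o2 (C ⊓ centralizer (NoFF.Basic.V Z C : Set G)) := by
        refine le_trans ?_ (NO3S.EMany.Low.InpG.o2_le_o2_of_le
          (inf_le_inf_left C (centralizer_le (Z_le Z C)) : C ⊓ centralizer (NoFF.Basic.V Z C : Set G) ≤ _))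
        exact le_inf inf_le_left (le_inf (inf_le_left.trans ((o2_le _).trans inf_le_left)) inf_le_right)
      refine h1.trans (le_o2 ((o2_le _).trans inf_le_left) (o2_isPGroup _) ?_)
      refine le_trans ?_ (normalizer_le_normalizer_o2 _)
      exact le_trans (le_inf Subgroup.le_normalizer ((le_norm_V Z C).trans (nc _))) inf_normalizer_le_normalizer_inf
    · have h1 : o2 C ≤ T := o2_le_of_sylow h.two h.syl
      have h2 : NoFF.Basic.V Z C ≤ centralizer (o2 C : Set G) :=
        V_le_of (comm_symm (h1.trans h.TZ)) ((le_normalizer_o2 C).trans (nc _))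
      have h3 := comm_symm h2
      refine le_inf ?_ h3
      refine le_trans ?_ (NO3S.EMany.Low.InpG.o2_le_o2_of_le
          (inf_le_left : C ⊓ centralizer (Z : Set G) ≤ C))
      exact le_inf le_rfl (le_inf (o2_le _) (h1.trans h.TZ))

/-- `O ∩ C(N)` is normalised by `C` -/
theorem C_Q (h : DtB C T M V Z Y) :
    C ≤ normalizer ((o2 (C ⊓ centralizer (Z : Set G)) ⊓ centralizer (NoFF.Basic.V Z C : Set G) : Subgroup G) : Set G) := by
  rw [h.Q_eq]
  exact le_normalizer_o2 C

/-- **FAIL** -/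
theorem fail (h : DtB C T M V Z Y) (hML : ML.Final.MLK.{u, u}) (hE : ML.Ex.Two.Ext.{u, u}) {A : Subgroup G}
    (hA : A ∈ AA (o2 (C ⊓ centralizer (Z : Set G)))) :
    A ⊓ centralizer (NoFF.Basic.V Z (C ⊓ centralizer (Y : Set G) ⊔ T) : Set G) ≤
      centralizer (NoFF.Basic.V Z C : Set G) := by
  set O := o2 (C ⊓ centralizer (Z : Set G)) with hO
  set H := C ⊓ centralizer (Y : Set G) ⊔ T with hH
  set N := NoFF.Basic.V Z C with hN
  set U := NoFF.Basic.V Z H with hU
  have hHC : H ≤ C := sup_le inf_le_left h.TC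
  have hTH : T ≤ H := le_sup_right
  have hUM : U ≤ M := V_le_of h.ZM (hHC.trans h.CM)
  have hUN : U ≤ N := V_le_of (Z_le Z C) (hHC.trans (le_norm_V Z C))
  have hUe : IsElementaryAbelian 2 U := eab_mono h.eM hUM
  have hNe : IsElementaryAbelian 2 N := eab_mono h.eM h.NM
  have hUO : U ≤ O := hUM.trans h.MO
  have hNO : N ≤ O := h.NM.trans h.MO
  have noU : NoOn O U := h.noOn hML hTH hHC
  have noN : NoOn O N := h.noOn hML h.TC le_rfl
  set B := A ⊓ centralizer (U : Set G) with hB
  by_contra hmv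
  have hAe : IsElementaryAbelian 2 A := hA.1
  have hBe : IsElementaryAbelian 2 B := eab_mono hAe inf_le_left
  have hBO : B ≤ O := inf_le_left.trans hA.2.1
  have hBT : B ≤ T := hBO.trans h.OT
  have hBU : B ⊔ U ∈ AA O := (exch hUe hUO noU hA).2.2
  -- `J(Q)` centralises `M`
  have hJQ : jj (O ⊓ centralizer (N : Set G)) ≤ centralizer (M : Set G) := by
    refine comm_symm (h.MV.trans (V_le_of ?_ ?_))
    · exact comm_symm ((jj_inf_le hNe hNO noN).trans h.J)
    · refine le_trans ?_ (nc _)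
      intro g hg
      rw [mem_normalizer_iff_cj, ← jj_cj, cj_eq_of_mem_normalizer (h.C_Q hg)]
  -- `C_B(N) ≤ C(M)`
  have hker : B ⊓ centralizer (N : Set G) ≤ centralizer (M : Set G) := by
    have h1 := exch_inf hNe hNO noN hBU
    refine le_trans ?_ ((le_jj h1).trans hJQ)
    exact (inf_le_inf_right _ le_sup_left).trans le_sup_left
  have hrel : ∀ B' : Subgroup G, B' ≤ B →
      (centralizer (M : Set G)).relIndex B' = (centralizer (N : Set G)).relIndex B' := by
    intro B' hB'
    have e : B' ⊓ centralizer (M : Set G) = B' ⊓ centralizer (N : Set G) := by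
      apply le_antisymm
      · exact inf_le_inf_left _ (centralizer_le h.NM)
      · exact le_inf inf_le_left ((inf_le_inf_right _ hB').trans hker)
    rw [← inf_relIndex_left B' (centralizer (M : Set G)), e, inf_relIndex_left]
  refine Cfsg.Agent.Omega.KL.StarQ.GInD.false_of (C := C) (T := T) (A := B) (D := C ⊓ centralizer (Z : Set G)) (M := M) (Z := Z) (Y := Y)
    hML hE ?_
  exact
    { CM := h.CM
      sqM := (eab_iff.1 h.eM).2
      TC := h.TC
      two := h.two
      syl := h.syl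
      ZM := h.ZM
      YM := h.YM
      TZ := h.TZ
      NY := h.NY
      cY := h.cY
      ND := le_inf inf_le_left h.NZ
      AD := hBO
      good := by
        intro P hP hPC hPD
        have h1 : ¬ P ≤ centralizer (Z : Set G) := fun h2 => hPD (le_inf hPC h2)
        exact ⟨h.uni P hP hPC h1, h1⟩
      bad := fun P _ _ hPD => Or.inl (hPD.trans inf_le_right)
      AT := hBT
      sqA := (eab_iff.1 hBe).2
      AY := by
        have h1 : H ⊓ centralizer (U : Set G) ≤ C ⊓ centralizer (Z : Set G) :=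
          inf_le_inf hHC (centralizer_le (Z_le Z H))
        have h2 : B ≤ o2 (H ⊓ centralizer (U : Set G)) := by
          refine le_trans ?_ (NO3S.EMany.Low.InpG.o2_le_o2_of_le h1)
          exact le_inf hBO (le_inf (hBT.trans hTH) inf_le_right)
        refine h2.trans (le_o2 ((o2_le _).trans inf_le_left) (o2_isPGroup _) ?_)
        refine le_trans ?_ (normalizer_le_normalizer_o2 _)
        exact le_trans (le_inf Subgroup.le_normalizer ((le_norm_V Z H).trans (nc _))) inf_normalizer_le_normalizer_inf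
      nk := hker
      mv := fun h1 => hmv (h1.trans (centralizer_le h.NM))
      no := by
        intro B' hB'
        rw [hrel B' hB']
        refine (noN B' (eab_mono hBe hB') (hB'.trans hBO)).trans ?_
        exact ML.GMod.ri_mono _ h.NM
      le := by
        have h1 := le_of_mem h.eM h.MO hBU
        have hMU : M ≤ centralizer (U : Set G) := comm_mono (eab_iff.1 h.eM).1 le_rfl hUM
        have e1 : M ⊓ centralizer ((B ⊔ U : Subgroup G) : Set G) = M ⊓ centralizer (B : Set G) := by
          apply le_antisymm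
          · exact inf_le_inf_left _ (centralizer_le (le_sup_left : B ≤ B ⊔ U))
          · refine le_inf inf_le_left (comm_symm (sup_le ?_ ?_))
            · exact comm_symm inf_le_right
            · exact comm_symm (inf_le_left.trans hMU)
        rw [← inf_relIndex_left M (centralizer ((B ⊔ U : Subgroup G) : Set G)), e1, inf_relIndex_left] at h1
        have hc := (eab_iff.1 hBU.1).1
        have e2 : (centralizer (M : Set G)).relIndex (B ⊔ U : Subgroup G) = (centralizer (M : Set G)).relIndex B :=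
          NO3b.BasePt.Count.relIndex_sup (fun v hv w hw => (mem_centralizer_iff.1 (hc hv) w hw).symm) le_sup_right
            le_sup_left (sup_comm B U).le (comm_symm hMU)
        rwa [e2] at h1
      K := h.K }

end DtB

end Cfsg.Agent.Omega.NO3S.TwoB
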